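import Cfsg.Agent.H183.CC.DegA

/-! # S4793, DEG: the orbit of the torus, the missing character -/

set_option autoImplicit false
set_option linter.unusedSectionVars false

open Cfsg Cfsg.Agent.Characters.Core
open scoped ComplexConjugate

namespace Cfsg.Agent.H183.CC

open Module Cfsg.Agent.H603.CC
open Cfsg.Agent.H269.CC (gen_tv)
open Cfsg.Agent.H418.CC (heis_deg)
open Cfsg.Agent.H161.CC (UE exists_zz FixS_le_UE FixS_comm_UE FixS_comm_Ref exists_ue)
open Cfsg.Agent.H118.CC (exists_isometry_of_rank)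
open Cfsg.Agent.H174.CC (exists_psi)
open Cfsg.Agent.H305.CC (exists_torus)

universe u v w

section

variable {F : Type u} {V : Type v} [Field F] [AddCommGroup V] [Module F V] {q : ℕ} {σ : F →+* F}
  {B : V →ₛₗ[σ] V →ₗ[F] F} [Finite F] [Finite V]

/-- The orbit of `l'` under the torus has at least `N` elements. -/
theorem exists_orbit (h : HS q σ B) {E : Submodule F V} (hE : IsTS B E) {T S : Subgroup (UU B)}
    (hTE : ∀ t ∈ T, ∀ e ∈ E, ac B t e ∈ E) {N : ℕ} (hcT : Nat.card T = N * (q + 1))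
    (hcS : Nat.card (T ⊓ S : Subgroup (UU B)) = q + 1) {ψ : AddChar F ℂ} (hψ : ψ ≠ 1)
    {C : E →ₛₗ[σ] E →ₗ[F] F}
    (hC : ∀ t (_ht : t ∈ T) (hte : ∀ e ∈ E, ac B t e ∈ E),
          (∀ e e' : E, C ⟨ac B t e, hte e e.2⟩ ⟨ac B t e', hte e' e'.2⟩ = C e e') → t ∈ S)
    (l : FixS B (perp B E) →* ℂˣ) (hl : Bel l ψ C) :
    ∃ O : Finset (FixS B (perp B E) →* ℂˣ), N ≤ O.card ∧ ∀ l' ∈ O, ∃ (t : UU B) (ht : t ∈ T),
      ∀ z, l' (cj E t (hTE t ht) (hTE t⁻¹ (T.inv_mem ht)) z) = l z := by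
  classical
  have := Fintype.ofFinite T
  let Φ : T → (FixS B (perp B E) →* ℂˣ) := fun t =>
    l.comp (cj E (t : UU B)⁻¹ (hTE _ (T.inv_mem t.2)) (by rw [inv_inv]; exact hTE t t.2)).toMonoidHom
  have hΦ : ∀ (t : T) (z : FixS B (perp B E)), Φ t z =
    l (cj E (t : UU B)⁻¹ (hTE _ (T.inv_mem t.2)) (by rw [inv_inv]; exact hTE t t.2) z) := fun t z => rfl
  refine ⟨Finset.univ.image Φ, ?_, ?_⟩
  · have h1 := Finset.card_le_mul_card_image (f := Φ) Finset.univ (q + 1) (by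
      intro b hb
      obtain ⟨s, -, rfl⟩ := Finset.mem_image.1 hb
      -- the fibre
      have hfib : ∀ t : T, Φ t = Φ s → (t : UU B)⁻¹ * (s : UU B) ∈ S := by
        intro t ht
        have huT : (t : UU B)⁻¹ * (s : UU B) ∈ T := T.mul_mem (T.inv_mem t.2) s.2
        refine hC _ huT (hTE _ huT) fun e e' => ?_
        -- scaling
        rw [← sub_eq_zero]
        apply eq_zero_of_psi hψ
        intro c
        obtain ⟨z, hz, hzz⟩ := exists_zz h hE e.2 (c • e').2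
        set u : UU B := (t : UU B)⁻¹ * (s : UU B) with hu
        have h2 := congrFun (congrArg DFunLike.coe ht)
          (cj E (s : UU B) (hTE s s.2) (hTE _ (T.inv_mem s.2)) ⟨z, hz⟩)
        rw [hΦ, hΦ] at h2
        have h3 : cj E (s : UU B)⁻¹ (hTE _ (T.inv_mem s.2)) (by rw [inv_inv]; exact hTE s s.2)
            (cj E (s : UU B) (hTE s s.2) (hTE _ (T.inv_mem s.2)) ⟨z, hz⟩) = ⟨z, hz⟩ := by
          apply Subtype.ext
          rw [coe_cj, coe_cj]
          group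
        rw [h3] at h2
        have h4 := hl ⟨z, hz⟩ e (c • e') hzz
        have h5 : Iszz ((cj E (t : UU B)⁻¹ (hTE _ (T.inv_mem t.2)) (by rw [inv_inv]; exact hTE t t.2)
            (cj E (s : UU B) (hTE s s.2) (hTE _ (T.inv_mem s.2)) ⟨z, hz⟩) : FixS B (perp B E)) : UU B)
            (ac B u e) (ac B u ((c • e' : E) : V)) := by
          rw [coe_cj, coe_cj]
          have h6 := Iszz.conj (z := z) (e := e) (e' := ((c • e' : E) : V)) hzz u
          have h7 : (t : UU B)⁻¹ * ((s : UU B) * z * (s : UU B)⁻¹) * ((t : UU B)⁻¹)⁻¹ = u * z * u⁻¹ := by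
            rw [hu]
            group
          rw [h7]
          exact h6
        have h8 := hl _ ⟨ac B u e, hTE _ huT e e.2⟩ ⟨ac B u ((c • e' : E) : V), hTE _ huT _ (c • e').2⟩ h5
        rw [h2, h4] at h8
        have h9 : (⟨ac B u ((c • e' : E) : V), hTE _ huT _ (c • e').2⟩ : E) =
            c • ⟨ac B u e', hTE _ huT _ e'.2⟩ := Subtype.ext (ac_smul u c _)
        have hA : C e (c • e') = c * C e e' := (C e).map_smul c e'
        have hB : C ⟨ac B u e, hTE _ huT e e.2⟩ (c • (⟨ac B u e', hTE _ huT _ e'.2⟩ : E)) =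
            c * C ⟨ac B u e, hTE _ huT e e.2⟩ ⟨ac B u e', hTE _ huT _ e'.2⟩ :=
          (C ⟨ac B u e, hTE _ huT e e.2⟩).map_smul c ⟨ac B u e', hTE _ huT _ e'.2⟩
        rw [h9, hA, hB] at h8
        have h10 : ψ (c * C e e') ≠ 0 := (ψ.val_isUnit _).ne_zero
        rw [mul_sub, AddChar.map_sub_eq_div]
        show ψ (c * C ⟨ac B u e, hTE _ huT e e.2⟩ ⟨ac B u e', hTE _ huT _ e'.2⟩) / ψ (c * C e e') = 1
        rw [← h8, div_self h10]
      have := Fintype.ofFinite (T ⊓ S : Subgroup (UU B))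
      have h2 : Fintype.card {x : T // Φ x = Φ s} ≤ Fintype.card (T ⊓ S : Subgroup (UU B)) :=
        Fintype.card_le_of_injective (fun x => ⟨(x.1 : UU B)⁻¹ * s,
          T.mul_mem (T.inv_mem x.1.2) s.2, hfib x.1 x.2⟩) (by
            intro x y hxy
            have h3 : (x.1 : UU B)⁻¹ * s = (y.1 : UU B)⁻¹ * s := congrArg Subtype.val hxy
            exact Subtype.ext (Subtype.ext (inv_injective (mul_right_cancel h3))))
      rw [Fintype.card_subtype, ← Nat.card_eq_fintype_card, hcS] at h2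
      exact h2)
    rw [Finset.card_univ, ← Nat.card_eq_fintype_card, hcT, mul_comm] at h1
    exact Nat.le_of_mul_le_mul_left h1 (Nat.succ_pos q)
  · intro l' hl'
    obtain ⟨t, -, rfl⟩ := Finset.mem_image.1 hl'
    refine ⟨t, t.2, fun z => ?_⟩
    rw [hΦ]
    congr 1
    apply Subtype.ext
    rw [coe_cj, coe_cj]
    group

/-- Linear characters of the same rank are conjugate. -/
theorem exists_transport (h : HS q σ B) {E : Submodule F V} (hE : IsTS B E) {ψ : AddChar F ℂ}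
    {l : FixS B (perp B E) →* ℂˣ} {C C' : E →ₛₗ[σ] E →ₗ[F] F} (hC : C.IsSymm) (hl : Bel l ψ C)
    (hC' : C'.IsSymm) (hk : finrank F (LinearMap.ker C) = finrank F (LinearMap.ker C')) {χ : UU B → ℂ}
    (hcl : IsClassFunction (UU B) χ) :
    ∃ l' : FixS B (perp B E) →* ℂˣ, Bel l' ψ C' ∧
      ml (fun z : FixS B (perp B E) => χ z) l' = ml (fun z : FixS B (perp B E) => χ z) l := by
  obtain ⟨g, hg⟩ := exists_isometry_of_rank h.two_le h.card h.sig C C' hC hC' rfl hk
  obtain ⟨g₁, hg₁⟩ := witt h E (E.subtype ∘ₗ g.toLinearMap)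
    (fun x y hxy => g.injective (Subtype.ext hxy)) (fun x x' => by
      show B (g x : V) (g x' : V) = _
      rw [hE _ (g x).2 _ (g x').2, hE _ x.2 _ x'.2])
  have h1 : ∀ x : E, ac B g₁ x = g x := hg₁
  have h2 : ∀ x : E, ac B g₁⁻¹ x = g.symm x := by
    intro x
    have h3 := h1 (g.symm x)
    rw [g.apply_symm_apply] at h3
    rw [← h3, ac_inv_ac]
  have hgE : ∀ e ∈ E, ac B g₁ e ∈ E := fun e he => by
    rw [h1 ⟨e, he⟩]
    exact (g ⟨e, he⟩).2
  have hgE' : ∀ e ∈ E, ac B g₁⁻¹ e ∈ E := fun e he => by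
    rw [h2 ⟨e, he⟩]
    exact (g.symm ⟨e, he⟩).2
  refine ⟨l.comp (cj E g₁⁻¹ hgE' (by rw [inv_inv]; exact hgE)).toMonoidHom, ?_, ?_⟩
  · intro z e e' hz
    have h3 := hz.conj g₁⁻¹
    rw [h2, h2] at h3
    have h4 := hl (cj E g₁⁻¹ hgE' (by rw [inv_inv]; exact hgE) z) (g.symm e) (g.symm e') h3
    have h5 := hg (g.symm e) (g.symm e')
    rw [g.apply_symm_apply, g.apply_symm_apply] at h5
    rw [h5]
    exact h4
  · symm
    refine ml_comp (cj E g₁⁻¹ hgE' (by rw [inv_inv]; exact hgE)) (fun z => ?_) l _ (fun z => rfl)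
    rw [coe_cj]
    exact hcl _ _

/-- some nontrivial linear character of the centre of the unipotent radical occurs -/
theorem exists_l (h : HS q σ B) (hn : 2 ≤ finrank F V) (h32 : ¬ (finrank F V = 3 ∧ q = 2)) {χ : UU B → ℂ}
    (hχ : IsIrrCharacter (UU B) χ) (h1 : χ 1 ≠ 1) {E : Submodule F V} (hE : IsTS B E) (hE0 : 0 < finrank F E) :
    ∃ l : FixS B (perp B E) →* ℂˣ, l ≠ 1 ∧ ml (fun z : FixS B (perp B E) => χ z) l ≠ 0 := by
  obtain ⟨t, ht⟩ := exists_isTv h hn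
  obtain ⟨ht1, e', he'0, he', hte'⟩ := id ht
  have hEn : Nontrivial E := Module.nontrivial_of_finrank_pos hE0
  obtain ⟨e, he0⟩ := exists_ne (0 : E)
  have he0' : (e : V) ≠ 0 := fun h0 => he0 (Subtype.ext h0)
  obtain ⟨g, hg⟩ := exists_conj_vec h he'0 he0' (by rw [he', hE _ e.2 _ e.2])
  have hs : g * t * g⁻¹ ∈ FixS B (perp B E) := by
    intro x hx
    have h2 : g * t * g⁻¹ ∈ Ref B (ac B g e') := conj_mem_Ref.2 hte'
    rw [hg] at h2
    refine h2 x ?_
    intro w hw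
    obtain ⟨c, rfl⟩ := Submodule.mem_span_singleton.1 hw
    rw [LinearMap.map_smulₛₗ, LinearMap.smul_apply, hx _ e.2, smul_zero]
  by_contra hne
  push Not at hne
  have h2 := eq_one_of_ml (A := FixS B (perp B E))
    (fun a b => Subtype.ext (IsTS.comm_ne h hE a.2 b.2))
    (isCharacter_comp (FixS B (perp B E)).subtype (isIrr_isCharacter hχ)) (fun l hl => hne l hl) ⟨_, hs⟩
  have h3 : χ (g * t * g⁻¹) = χ 1 := h2
  rw [isIrr_isClassFunction hχ] at h3
  exact ne_of_tv h h32 hχ h1 ht h3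

theorem ref_comm (h : HS q σ B) {f : V} (hf : B f f = 1) {t : UU B} (ht : ac B t f = f) {ρ : UU B}
    (hρ : ρ ∈ Ref B f) : ρ * t = t * ρ := by
  obtain ⟨c, -, hc, -⟩ := of_mem_Ref h hf hρ
  apply ac_ext
  intro x
  rw [ac_mul, ac_mul, hc, hc, ac_add, ac_smul, ht]
  have h1 : B f (ac B t x) = B f x := by
    conv_lhs => rw [← ht]
    exact form_ac t f x
  rw [h1]

/-- `NoRef` at one centre suffices. -/
theorem noRef_of_one (h : HS q σ B) {χ : UU B → ℂ} (hcl : IsClassFunction (UU B) χ) {f : V} (hf : B f f = 1)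
    (h0 : ∑ᶠ ρ : Ref B f, χ (ρ : UU B) = 0) : NoRef χ := by
  intro f' hf'
  have hf0 : f ≠ 0 := by
    rintro rfl
    rw [map_zero] at hf
    exact zero_ne_one hf
  have hf0' : f' ≠ 0 := by
    rintro rfl
    rw [map_zero] at hf'
    exact zero_ne_one hf'
  obtain ⟨g, hg⟩ := exists_conj_vec h hf0 hf0' (by rw [hf, hf'])
  subst hg
  rw [← h0]
  symm
  let e : Ref B f ≃ Ref B (ac B g f) :=
    { toFun := fun ρ => ⟨g * ρ * g⁻¹, conj_mem_Ref.2 ρ.2⟩
      invFun := fun ρ => ⟨g⁻¹ * ρ * g, by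
        rw [← conj_mem_Ref (g := g)]
        have h1 : g * (g⁻¹ * (ρ : UU B) * g) * g⁻¹ = ρ := by group
        rw [h1]
        exact ρ.2⟩
      left_inv := fun ρ => Subtype.ext (by show g⁻¹ * (g * (ρ : UU B) * g⁻¹) * g = ρ; group)
      right_inv := fun ρ => Subtype.ext (by show g * (g⁻¹ * (ρ : UU B) * g) * g⁻¹ = ρ; group) }
  exact finsum_eq_of_bijective e e.bijective fun ρ => (hcl _ _).symm

/-- **The missing character.** -/
theorem exists_kappa (h : HS q σ B) {m : ℕ} (hn : finrank F V = 2 * m + 1) (hm : 1 ≤ m)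
    (hq : ¬ (m = 1 ∧ q = 2)) {χ : UU B → ℂ} (hχ : IsIrrCharacter (UU B) χ) {N : ℕ}
    (hN : N * (q + 1) = q ^ (2 * m) - 1) (hd : χ 1 = (q * N : ℕ)) :
    ∃ κ : Fˣ →* ℂˣ, NoRef (fun g : UU B => χ g * dl κ g) := by
  have h2 := h.two_le
  have hcl := isIrr_isClassFunction hχ
  have hN0 : 0 < N := by
    rcases Nat.eq_zero_or_pos N with h0 | h0
    · rw [h0, zero_mul] at hN
      have h3 : q ^ 1 ≤ q ^ (2 * m) := Nat.pow_le_pow_right (by omega) (by omega)
      rw [pow_one] at h3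
      omega
    · exact h0
  obtain ⟨E, f, T, τ, hE, hEm, hf, hfE, -, hTf, hTE, -, -, hcT, hcS, htor⟩ := exists_torus h hn hm hq
  have hperp := perp_eq h hn hE hEm hf hfE
  have hχ1 : χ 1 ≠ 1 := by
    rw [hd]
    intro h3
    have h4 : q * N = 1 := by exact_mod_cast h3
    have h5 := Nat.eq_one_of_mul_eq_one_right h4
    omega
  obtain ⟨l, hl1, hl⟩ := exists_l h (by omega) (fun h3 => hq ⟨by omega, h3.2⟩) hχ hχ1 hE (by omega)
  obtain ⟨ψ, hψ, H⟩ := exists_psi.{u, v} F q σ h.two_le h.card h.sig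
  obtain ⟨C, hCs, hC0, hCl⟩ := H V B h E hE l
  have hle := Submodule.finrank_le (LinearMap.ker C)
  obtain ⟨r, hr⟩ : ∃ r, finrank F (LinearMap.ker C) + r = m := ⟨m - finrank F (LinearMap.ker C), by omega⟩
  have hr1 : 1 ≤ r := by
    by_contra hr0
    apply hl1
    apply hC0
    have h3 : LinearMap.ker C = ⊤ := Submodule.eq_top_of_finrank_eq (by omega)
    exact LinearMap.ker_eq_top.1 h3
  obtain ⟨C', hCs', hCr', hCt'⟩ := htor r hr1 (by omega)
  obtain ⟨l', hl', hml⟩ := exists_transport h hE hCs hCl hCs' (by omega) hcl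
  obtain ⟨k, hk⟩ := exists_nat_ml (isCharacter_comp (FixS B (perp B E)).subtype (isIrr_isCharacter hχ)) l'
  have hk' : ml (fun z : FixS B (perp B E) => χ z) l' = k := hk
  have hk0 : k ≠ 0 := by
    rintro rfl
    apply hl
    rw [← hml, hk', Nat.cast_zero]
  have hkq : q ≤ k := by
    have h3 := le_ml h hE hf hfE hperp (isIrr_isCharacter hχ) l' hk' hk0 hψ hl' (hCr'.trans hEm.symm)
    have h4 : q ^ 1 ≤ q ^ r := Nat.pow_le_pow_right (by omega) hr1
    rw [pow_one] at h4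
    omega
  obtain ⟨O, hO, hOt⟩ := exists_orbit h hE hTE (hcT.trans hN.symm) hcS hψ hCt' l' hl'
  obtain ⟨θ, hθ⟩ := Lib.ClassTwoDuality.exists_faithful_char Fˣ inferInstance
  -- the characters of the group of reflections
  let lam : Fin (q + 1) → (Ref B f →* ℂˣ) := fun j => ((θ ^ (j : ℕ)).comp dt).comp (Ref B f).subtype
  have hlam : ∀ j (r : Ref B f), lam j r = (θ (dt (r : UU B))) ^ (j : ℕ) := fun j r => rfl
  obtain ⟨j, hj⟩ := exists_missing (isIrr_isCharacter hχ) (Z := FixS B (perp B E)) (R := Ref B f)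
    (fun a ha b hb => IsTS.comm_ne h hE ha hb)
    (fun r hr z hz => (FixS_comm_Ref h hE hf hfE hz hr).symm) hN0 hd O hO l' hk' hkq (by
      intro l₁ hl₁
      obtain ⟨t, ht, htl⟩ := hOt l₁ hl₁
      refine ⟨cj E t (hTE t ht) (hTE _ (T.inv_mem ht)), htl, fun z r hr => ?_⟩
      rw [coe_cj]
      have h3 : r * (t * (z : UU B) * t⁻¹) = t * (r * z) * t⁻¹ := by
        rw [← mul_assoc, ← mul_assoc, ← mul_assoc, ref_comm h hf (hTf t ht) hr]
      rw [h3, hcl]) lam (by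
      intro r hr
      obtain ⟨c, hc, hcx, hcd⟩ := of_mem_Ref h hf r.2
      set ζ : ℂ := (((θ (dt (r : UU B)))⁻¹ : ℂˣ) : ℂ) with hζ
      have h3 : ∀ j : Fin (q + 1), (((lam j r)⁻¹ : ℂˣ) : ℂ) = ζ ^ (j : ℕ) := by
        intro j
        rw [hlam, hζ, ← inv_pow, Units.val_pow_eq_pow_val]
      simp only [h3]
      have h4 : ζ ≠ 1 := by
        intro h4
        apply hr
        have h5 : (θ (dt (r : UU B)))⁻¹ = 1 := Units.ext h4
        rw [inv_eq_one] at h5
        have h6 : dt (r : UU B) = 1 := hθ (by rw [h5, map_one])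
        have h7 : c = 1 := by rw [← hcd, h6]; rfl
        apply Subtype.ext
        apply ac_ext
        intro x
        rw [hcx, h7, sub_self, zero_mul, zero_smul, add_zero]
        rfl
      have h5 : ζ ^ (q + 1) = 1 := by
        have h6 : (dt (r : UU B)) ^ (q + 1) = 1 := by
          apply Units.ext
          rw [Units.val_pow_eq_pow_val, hcd, hc]
          rfl
        rw [hζ, ← Units.val_pow_eq_pow_val, inv_pow, ← map_pow, h6, map_one, inv_one, Units.val_one]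
      rw [Fin.sum_univ_eq_sum_range (fun i => ζ ^ i) (q + 1), geom_sum_eq h4, h5, sub_self, zero_div])
    (card_Ref h hf)
  refine ⟨(θ ^ (j : ℕ))⁻¹, ?_⟩
  refine noRef_of_one h ?_ hf ?_
  · intro g x
    show χ (x * g * x⁻¹) * _ = _
    rw [hcl]
    congr 1
    rw [dl, dl]
    congr 2
    rw [map_mul, map_mul, map_inv, mul_comm (dt x), mul_inv_cancel_right]
  · rw [← hj]
    rfl

/-- **The goal**, with the theorem `exists_unique_weil` of MAIN2 as a hypothesis. -/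
theorem noRef_of_degree_of_weil (h : HS q σ B) (hodd : Odd (finrank F V)) (hn : 3 ≤ finrank F V)
    (hweil : ¬ (finrank F V = 3 ∧ q = 2) → ∀ ε : Zs B →* ℂˣ,
      ∃ χ : IrrCharacter (UU B), NoRef (χ : UU B → ℂ) ∧ (∀ t : UU B, IsTv t → (χ : UU B → ℂ) t ≠ (χ : UU B → ℂ) 1) ∧
      (∀ (z : Zs B) (g : UU B), (χ : UU B → ℂ) (z * g) = (ε z : ℂˣ) * (χ : UU B → ℂ) g) ∧
      (∀ g : UU B, (χ : UU B → ℂ) g = ((q : ℂ) + 1)⁻¹ * ∑ᶠ z : Zs B, ((ε z)⁻¹ : ℂˣ) * (- wf q ((z : UU B) * g))) ∧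
      ∀ ψ : IrrCharacter (UU B), NoRef (ψ : UU B → ℂ) →
        (∀ t : UU B, IsTv t → (ψ : UU B → ℂ) t ≠ (ψ : UU B → ℂ) 1) →
        (∀ (z : Zs B) (g : UU B), (ψ : UU B → ℂ) (z * g) = (ε z : ℂˣ) * (ψ : UU B → ℂ) g) → ψ = χ)
    (hcop : Nat.Coprime (finrank F V) (q + 1)) {χ : UU B → ℂ} (hχ : IsIrrCharacter (UU B) χ)
    (hz : ∀ z ∈ Zs B, ∀ g, χ (z * g) = χ g)
    (hdeg : charDegree χ = (q ^ finrank F V - q) / (q + 1)) : NoRef χ := by
  classical
  have h2 := h.two_le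
  obtain ⟨m, hm⟩ := hodd
  have hm1 : 1 ≤ m := by omega
  have hq : ¬ (m = 1 ∧ q = 2) := by
    rintro ⟨rfl, rfl⟩
    rw [hm] at hcop
    norm_num at hcop
  obtain ⟨N, hN⟩ : ∃ N, N * (q + 1) = q ^ (2 * m) - 1 := by
    have h3 : q + 1 ∣ q ^ (2 * m) - 1 := by
      have h4 : q ^ 2 - 1 ∣ (q ^ 2) ^ m - 1 := by
        have h5 := Nat.sub_dvd_pow_sub_pow (q ^ 2) 1 m
        rwa [one_pow] at h5
      rw [pow_mul]
      refine dvd_trans ⟨q - 1, ?_⟩ h4
      obtain ⟨a, rfl⟩ : ∃ a, q = a + 1 := ⟨q - 1, by omega⟩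
      rw [Nat.add_sub_cancel]
      apply Nat.sub_eq_of_eq_add
      ring
    obtain ⟨N, hN⟩ := h3
    exact ⟨N, by rw [hN, mul_comm]⟩
  have hpos : 1 ≤ q ^ (2 * m) := Nat.one_le_pow _ _ (by omega)
  have hqN : q ^ finrank F V - q = (q * N) * (q + 1) := by
    rw [mul_assoc, hN, hm, pow_succ, Nat.mul_sub, mul_one, mul_comm q]
  have hd : χ 1 = (q * N : ℕ) := by
    obtain ⟨d, -, hd⟩ := isIrr_apply_one hχ
    rw [Blocks.Basic.charDegree_of_eq hd, hqN, Nat.mul_div_cancel _ (Nat.succ_pos q)] at hdeg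
    rw [hd, hdeg]
  obtain ⟨κ, hκ⟩ := exists_kappa h hm hm1 hq hχ hN hd
  have hχ1 : χ 1 ≠ 1 := by
    rw [hd]
    intro h3
    have h4 : q * N = 1 := by exact_mod_cast h3
    have h5 := Nat.eq_one_of_mul_eq_one_right h4
    omega
  have h32 : ¬ (finrank F V = 3 ∧ q = 2) := fun h3 => hq ⟨by omega, h3.2⟩
  -- the twisted character
  have hχκ : IsIrrCharacter (UU B) (fun g : UU B => χ g * dl κ g) :=
    CharactersDeep.ExtUnique.isIrr_mul_hom hχ (κ.comp dt)
  let ε : Zs B →* ℂˣ := (κ.comp dt).comp (Zs B).subtype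
  have hε : ∀ z : Zs B, ε z = κ (dt (z : UU B)) := fun z => rfl
  obtain ⟨X, -, -, -, hX, hu⟩ := hweil h32 ε
  have hXe := hu ⟨_, hχκ⟩ hκ (by
      intro t ht
      show χ t * dl κ t ≠ χ 1 * dl κ 1
      obtain ⟨-, e, he0, he, hte⟩ := id ht
      obtain ⟨k, -, -, hk⟩ := of_mem_Ref_tv h he0 he hte
      have h3 : dl κ t = 1 := by rw [dl, hk, map_one, Units.val_one]
      have h4 : dl κ (1 : UU B) = 1 := by rw [dl, map_one, map_one, Units.val_one]
      rw [h3, h4, mul_one, mul_one]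
      exact ne_of_tv h h32 hχ hχ1 ht) (by
      intro z g
      show χ ((z : UU B) * g) * dl κ ((z : UU B) * g) = (ε z : ℂˣ) * (χ g * dl κ g)
      rw [hz z z.2, hε, dl, dl, map_mul, map_mul, Units.val_mul]
      ring)
  have hval := hX 1
  rw [← hXe] at hval
  have hval' : χ 1 * dl κ 1 = ((q : ℂ) + 1)⁻¹ *
      ∑ᶠ z : Zs B, (((ε z)⁻¹ : ℂˣ) : ℂ) * (- wf q ((z : UU B) * 1)) := hval
  have := Fintype.ofFinite (Zs B)
  have hdl1 : dl κ (1 : UU B) = 1 := by rw [dl, map_one, map_one, Units.val_one]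
  rw [hdl1, mul_one, finsum_eq_sum_of_fintype] at hval'
  have hq1 : (q : ℂ) + 1 ≠ 0 := by exact_mod_cast Nat.succ_ne_zero q
  -- the values at scalars
  have hwf : ∀ z : Zs B, (((ε z)⁻¹ : ℂˣ) : ℂ) * (- wf q ((z : UU B) * 1)) =
      (if z = 1 then ((q : ℂ) ^ finrank F V + 1) else 0) - (((ε z)⁻¹ : ℂˣ) : ℂ) := by
    intro z
    rw [mul_one]
    by_cases hz1 : z = 1
    · rw [if_pos hz1, hz1]
      have h3 : fx ((1 : Zs B) : UU B) = ⊤ := by
        rw [eq_top_iff]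
        intro x _
        rfl
      rw [wf, h3, finrank_top, map_one, inv_one, Units.val_one, Odd.neg_pow ⟨m, hm⟩]
      ring
    · rw [if_neg hz1]
      have h3 : fx (z : UU B) = ⊥ := by
        rw [eq_bot_iff]
        intro x hx
        obtain ⟨c, hc⟩ := z.2
        by_contra hx0
        have hx0' : x ≠ 0 := hx0
        apply hz1
        have h4 : c • x = x := by rw [← hc]; exact hx
        have h5 : c = 1 := by
          have h6 : (c - 1) • x = 0 := by rw [sub_smul, one_smul, h4, sub_self]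
          exact sub_eq_zero.1 ((smul_eq_zero.1 h6).resolve_right hx0')
        apply Subtype.ext
        apply ac_ext
        intro y
        rw [hc, h5, one_smul]
        rfl
      rw [wf, h3, finrank_bot, pow_zero]
      ring
  have hε1 : ε = 1 := by
    by_contra hne
    have h3 : ∑ z : Zs B, (((ε z)⁻¹ : ℂˣ) : ℂ) = 0 := by
      have h4 := sum_hom_units_eq_zero ((Units.coeHom ℂ).comp (ε⁻¹)) (by
        intro h5
        apply hne
        ext z
        have h6 : (((ε z)⁻¹ : ℂˣ) : ℂ) = 1 := congrFun (congrArg DFunLike.coe h5) z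
        have h7 : (ε z)⁻¹ = 1 := Units.ext h6
        rw [inv_eq_one.1 h7]
        rfl)
      exact h4
    rw [Finset.sum_congr rfl (fun z _ => hwf z), Finset.sum_sub_distrib, h3, sub_zero,
      Finset.sum_ite_eq' Finset.univ (1 : Zs B), if_pos (Finset.mem_univ _), hd] at hval'
    have h5 : ((q * N : ℕ) : ℂ) * (q + 1) = (q : ℂ) ^ finrank F V + 1 := by
      rw [hval', mul_comm, ← mul_assoc, mul_inv_cancel₀ hq1, one_mul]
    have h6 : (q * N) * (q + 1) = q ^ finrank F V + 1 := by exact_mod_cast h5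
    have h7 : q ^ 1 ≤ q ^ finrank F V := Nat.pow_le_pow_right (by omega) (by omega)
    rw [pow_one] at h7
    omega
  -- `κ` is trivial on the norm one group
  have hκ1 : ∀ a : Fˣ, a ^ (q + 1) = 1 → κ a = 1 := by
    intro a ha
    have ha' : (a : F) ^ (q + 1) = 1 := by rw [← Units.val_pow_eq_pow_val, ha, Units.val_one]
    let g : V ≃ₗ[F] V := LinearEquiv.smulOfUnit a
    have hg : ∀ x, g x = (a : F) • x := fun x => rfl
    let z : UU B := mkU g (fun x y => by
      rw [hg, hg, (B ((a : F) • x)).map_smul, B.map_smulₛₗ, LinearMap.smul_apply, h.sig, smul_smul, mul_comm,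
        ← pow_succ, ha', one_smul])
    have hz : z ∈ Zs B := ⟨a, fun x => rfl⟩
    have h3 : dt z = a ^ finrank F V := by
      apply Units.ext
      rw [dt_def, LinearEquiv.coe_det, Units.val_pow_eq_pow_val]
      have h4 : ((z : V ≃ₗ[F] V) : V →ₗ[F] V) = (a : F) • LinearMap.id := by
        ext x
        rfl
      rw [h4, LinearMap.det_smul, LinearMap.det_id, mul_one]
    have h4 : κ a ^ finrank F V = 1 := by
      rw [← map_pow, ← h3, ← hε ⟨z, hz⟩, hε1]
      rfl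
    have h5 : κ a ^ (q + 1) = 1 := by rw [← map_pow, ha, map_one]
    have h6 : orderOf (κ a) ∣ Nat.gcd (finrank F V) (q + 1) :=
      Nat.dvd_gcd (orderOf_dvd_of_pow_eq_one h4) (orderOf_dvd_of_pow_eq_one h5)
    rw [hcop, Nat.dvd_one, orderOf_eq_one_iff] at h6
    exact h6
  intro f hf
  rw [← hκ f hf]
  refine finsum_congr fun ρ => ?_
  obtain ⟨c, hc, -, hcd⟩ := of_mem_Ref h hf ρ.2
  have h3 : (dt (ρ : UU B)) ^ (q + 1) = 1 := by
    apply Units.ext
    rw [Units.val_pow_eq_pow_val, hcd, hc]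
    rfl
  have h4 : dl κ (ρ : UU B) = 1 := by rw [dl, hκ1 _ h3, Units.val_one]
  show χ (ρ : UU B) = χ (ρ : UU B) * dl κ (ρ : UU B)
  rw [h4, mul_one]

end

end Cfsg.Agent.H183.CC
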