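import Cfsg.Agent.H183.CC.Mult
import Cfsg.Agent.H603.CC.Basic
import Cfsg.Agent.H269.CC.Gen
import Cfsg.Agent.H418.CC.Heis
import Cfsg.Agent.H161.CC.UE
import Cfsg.Agent.H118.CC.Form
import Cfsg.Agent.H174.CC.CharF
import Cfsg.Agent.H305.CC.Torus
import Cfsg.Agent.Lib.ClassTwoDuality
import Cfsg.Agent.Blocks.Basic
import Cfsg.Agent.Blocks.BlockKer
import Cfsg.Agent.Blocks.Deflate

/-! # S4793, DEG: the characters of degree `(q ^ n - q) / (q + 1)`, preparations -/

set_option autoImplicit false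
set_option linter.unusedSectionVars false

open Cfsg Cfsg.Agent.Characters.Core
open scoped ComplexConjugate

namespace Cfsg.Agent.H183.CC

open Module Cfsg.Agent.H603.CC
open Cfsg.Agent.H269.CC (gen_tv)
open Cfsg.Agent.H418.CC (heis_deg)
open Cfsg.Agent.H161.CC (UE exists_zz FixS_le_UE FixS_comm_UE FixS_comm_Ref exists_ue)
open Cfsg.Agent.H118.CC (exists_isometry_of_rank)
open Cfsg.Agent.H174.CC (exists_psi)
open Cfsg.Agent.H305.CC (exists_torus)

universe u v w

section

variable {F : Type u} {V : Type v} [Field F] [AddCommGroup V] [Module F V] {q : ℕ} {σ : F →+* F}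
  {B : V →ₛₗ[σ] V →ₗ[F] F} [Finite F] [Finite V]

/-- transvections are not in the kernel of a nonlinear character -/
theorem ne_of_tv (h : HS q σ B) (h32 : ¬ (finrank F V = 3 ∧ q = 2)) {χ : UU B → ℂ}
    (hχ : IsIrrCharacter (UU B) χ) (h1 : χ 1 ≠ 1) {t : UU B} (ht : IsTv t) : χ t ≠ χ 1 := by
  intro hχt
  obtain ⟨K, hK, hKm⟩ := Blocks.BlockKer.exists_kernel hχ
  have hcl := isIrr_isClassFunction hχ
  have hN : ∀ s : UU B, IsTv s → s ∈ K := by
    intro s hs
    obtain ⟨g, hg⟩ := isConj_iff.1 (isConj_tv h ht hs)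
    rw [hKm, ← hg, hcl]
    exact hχt
  have hdt : ∀ g : UU B, dt g = 1 → g ∈ K := fun g hg => gen_tv h h32 hN hg
  have := Fintype.ofFinite K
  obtain ⟨χ', hχ'⟩ := Blocks.Deflate.exists_deflation K χ hχ (by
    rw [Finset.sum_congr rfl (fun (n : K) _ => (hKm n).1 n.2), Finset.sum_const, nsmul_eq_mul]
    refine mul_ne_zero ?_ (isIrr_apply_one_ne_zero hχ)
    rw [Nat.cast_ne_zero, Finset.card_univ]
    exact Fintype.card_ne_zero)
  apply h1
  have hc : ∀ a b : UU B ⧸ K, a * b = b * a := by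
    intro a b
    obtain ⟨a, rfl⟩ := QuotientGroup.mk_surjective a
    obtain ⟨b, rfl⟩ := QuotientGroup.mk_surjective b
    rw [← QuotientGroup.mk_mul, ← QuotientGroup.mk_mul]
    refine (QuotientGroup.eq.2 (hdt _ ?_))
    rw [map_mul, map_inv, map_mul, map_mul, mul_comm (dt b), inv_mul_cancel]
  have h2 := Characters.CCBasic.irr_apply_one_of_comm hc χ'.2
  rw [hχ', Function.comp_apply]
  exact h2

theorem perp_eq (h : HS q σ B) {m : ℕ} (hn : finrank F V = 2 * m + 1) {E : Submodule F V} (hE : IsTS B E)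
    (hEm : finrank F E = m) {f : V} (hf : B f f = 1) (hfE : f ∈ perp B E) :
    perp B E = E ⊔ Submodule.span F {f} := by
  symm
  have hle : E ≤ perp B E := fun x hx w hw => hE w hw x hx
  have hfn : f ∉ E := fun hfE' => one_ne_zero (hf ▸ hE f hfE' f hfE')
  have h1 : E ⊔ Submodule.span F {f} ≤ perp B E :=
    sup_le hle ((Submodule.span_singleton_le_iff_mem _ _).2 hfE)
  refine Submodule.eq_of_le_of_finrank_le h1 ?_
  have h2 := finrank_perp h E
  have h3 : E < E ⊔ Submodule.span F {f} := by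
    refine lt_of_le_of_ne le_sup_left fun h4 => hfn ?_
    rw [h4]
    exact Submodule.mem_sup_right (Submodule.mem_span_singleton_self f)
  have h5 := Submodule.finrank_lt_finrank_of_lt h3
  omega

/-- The stabilizer of a singular space acts on the centre of the unipotent radical by conjugation. -/
def cj (E : Submodule F V) (g : UU B) (hg : ∀ e ∈ E, ac B g e ∈ E) (hg' : ∀ e ∈ E, ac B g⁻¹ e ∈ E) :
    FixS B (perp B E) ≃* FixS B (perp B E) where
  toFun z := ⟨g * z * g⁻¹, fun x hx => by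
    have h1 : ac B g⁻¹ x ∈ perp B E := by
      intro w hw
      rw [← form_ac g, ac_ac_inv]
      exact hx _ (hg w hw)
    rw [ac_mul, ac_mul, z.2 _ h1, ac_ac_inv]⟩
  invFun z := ⟨g⁻¹ * z * g, fun x hx => by
    have h1 : ac B g x ∈ perp B E := by
      intro w hw
      rw [← form_ac g⁻¹, ac_inv_ac]
      exact hx _ (hg' w hw)
    rw [ac_mul, ac_mul, z.2 _ h1, ac_inv_ac]⟩
  left_inv z := Subtype.ext (by simp only [mul_assoc, inv_mul_cancel_left, inv_mul_cancel, mul_one])
  right_inv z := Subtype.ext (by simp only [mul_assoc, mul_inv_cancel_left, mul_inv_cancel, mul_one])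
  map_mul' z z' := Subtype.ext (by
    simp only [Subgroup.coe_mul, mul_assoc, inv_mul_cancel_left])

theorem coe_cj {E : Submodule F V} {g : UU B} (hg : ∀ e ∈ E, ac B g e ∈ E) (hg' : ∀ e ∈ E, ac B g⁻¹ e ∈ E)
    (z : FixS B (perp B E)) : ((cj E g hg hg' z : FixS B (perp B E)) : UU B) = g * z * g⁻¹ := rfl

/-- `z = z(e, e')` -/
def Iszz (z : UU B) (e e' : V) : Prop := ∀ x, ac B z x = x + B e x • e' - B e' x • e

theorem Iszz.conj {z : UU B} {e e' : V} (hz : Iszz z e e') (g : UU B) :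
    Iszz (g * z * g⁻¹) (ac B g e) (ac B g e') := by
  intro x
  have h1 : ∀ y : V, B y (ac B g⁻¹ x) = B (ac B g y) x := fun y => by
    rw [← form_ac g y, ac_ac_inv]
  rw [ac_mul, ac_mul, hz, ac_sub, ac_add, ac_ac_inv, ac_smul, ac_smul, h1, h1]

/-- The linear character `l` of the centre of the unipotent radical belongs to the form `C`. -/
def Bel {E : Submodule F V} (l : FixS B (perp B E) →* ℂˣ) (ψ : AddChar F ℂ) (C : E →ₛₗ[σ] E →ₗ[F] F) : Prop :=
  ∀ (z : FixS B (perp B E)) (e e' : E), Iszz (z : UU B) (e : V) (e' : V) → ((l z : ℂˣ) : ℂ) = ψ (C e e')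

/-- scaling -/
theorem eq_zero_of_psi {ψ : AddChar F ℂ} (hψ : ψ ≠ 1) {a : F} (ha : ∀ c : F, ψ (c * a) = 1) : a = 0 := by
  by_contra ha0
  apply hψ
  ext x
  have h1 := ha (x * a⁻¹)
  rw [mul_assoc, inv_mul_cancel₀ ha0, mul_one] at h1
  rw [h1]
  rfl

theorem IsTS.comm_ne {E : Submodule F V} (h : HS q σ B) (hE : IsTS B E) {z z' : UU B} (hz : z ∈ FixS B (perp B E))
    (hz' : z' ∈ FixS B (perp B E)) : z * z' = z' * z :=
  FixS_comm_UE h hE hz (FixS_le_UE hE hz')

theorem ue_sub_mem (h : HS q σ B) {E : Submodule F V} {f : V} (hf : B f f = 1) (hfE : f ∈ perp B E)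
    (hperp : perp B E = E ⊔ Submodule.span F {f}) {u : UU B} (hu : u ∈ UE B E) {e : V} (he : e ∈ E)
    (hue : ac B u f = f + e) (x : V) : ac B u x - x + B e x • f ∈ E := by
  set y := ac B u x - x + B e x • f with hy
  have h1 : y ∈ perp B E := by
    intro w hw
    have h2 : B w (ac B u x) = B w x := by
      conv_lhs => rw [← hu.1 w hw]
      exact form_ac u w x
    rw [hy, map_add, map_sub, h2, sub_self, map_smul, hfE w hw, smul_zero, add_zero]
  have h3 : B f y = 0 := by
    have h4 : B f (ac B u x) = B f x - B e x := by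
      have h5 := form_ac u f x
      have h6 := form_ac u e x
      rw [hu.1 e he] at h6
      rw [hue, map_add, LinearMap.add_apply, h6] at h5
      linear_combination h5
    rw [hy, map_add, map_sub, h4, map_smul, hf, smul_eq_mul]
    ring
  rw [hperp] at h1
  obtain ⟨e0, he0, y0, hy0, hsum⟩ := Submodule.mem_sup.1 h1
  obtain ⟨c, rfl⟩ := Submodule.mem_span_singleton.1 hy0
  have h7 : B f e0 = 0 := h.zero_symm (hfE e0 he0)
  rw [← hsum, map_add, h7, map_smul, hf, smul_eq_mul, mul_one, zero_add] at h3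
  rw [← hsum, h3, zero_smul, add_zero]
  exact he0

/-- the commutators of the unipotent radical -/
theorem comm_zz (h : HS q σ B) {E : Submodule F V} {f : V} (hf : B f f = 1) (hfE : f ∈ perp B E)
    (hperp : perp B E = E ⊔ Submodule.span F {f}) {u w : UU B} (hu : u ∈ UE B E) (hw : w ∈ UE B E) {e e' : V}
    (he : e ∈ E) (he' : e' ∈ E) (hue : ac B u f = f + e) (hwe : ac B w f = f + e') :
    Iszz (u * w * u⁻¹ * w⁻¹) e e' := by
  have key : ∀ y, ac B u (ac B w y) = ac B w (ac B u y) + B e y • e' - B e' y • e := by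
    intro y
    have h1 := hu.1 _ (ue_sub_mem h hf hfE hperp hw he' hwe y)
    have h2 := hw.1 _ (ue_sub_mem h hf hfE hperp hu he hue y)
    rw [ac_add, ac_sub, ac_smul, hue] at h1
    rw [ac_add, ac_sub, ac_smul, hwe] at h2
    have h3 : ac B u (ac B w y) = ac B w y - y + B e' y • f + ac B u y - B e' y • (f + e) := by
      rw [← h1]
      abel
    have h4 : ac B w (ac B u y) = ac B u y - y + B e y • f + ac B w y - B e y • (f + e') := by
      rw [← h2]
      abel
    rw [h3, h4, smul_add, smul_add]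
    abel
  intro x
  set y := ac B u⁻¹ (ac B w⁻¹ x) with hy
  have hx : ac B w (ac B u y) = x := by rw [hy, ac_ac_inv, ac_ac_inv]
  have hB : ∀ e0 ∈ E, B e0 y = B e0 x := by
    intro e0 he0
    rw [← hx, ← form_ac u e0 y, ← form_ac w (ac B u e0), hu.1 _ he0, hw.1 _ he0]
  rw [ac_mul, ac_mul, ac_mul, ← hy, key y, hx, hB e he, hB e' he']

/-- The homomorphism `u ↦ u f - f`. -/
def dlt (E : Submodule F V) (f : V) (hfE : f ∈ perp B E) : UE B E →* Multiplicative E where
  toFun := fun u => Multiplicative.ofAdd ⟨ac B (u : UU B) f - f, u.2.2 f hfE⟩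
  map_one' := by
    rw [← ofAdd_zero]
    congr 1
    apply Subtype.ext
    show ac B (1 : UU B) f - f = 0
    rw [ac_one, sub_self]
  map_mul' := by
    intro u w
    rw [← ofAdd_add]
    congr 1
    apply Subtype.ext
    show ac B ((u : UU B) * (w : UU B)) f - f = (ac B (u : UU B) f - f) + (ac B (w : UU B) f - f)
    have h1 : ac B (u : UU B) (ac B (w : UU B) f - f) = ac B (w : UU B) f - f := u.2.1 _ (w.2.2 f hfE)
    rw [ac_sub] at h1
    rw [ac_mul, ← h1]
    abel

theorem dlt_coe {E : Submodule F V} {f : V} (hfE : f ∈ perp B E) (u : UE B E) :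
    ((Multiplicative.toAdd (dlt E f hfE u) : E) : V) = ac B (u : UU B) f - f := rfl

theorem dlt_surjective (h : HS q σ B) {E : Submodule F V} (hE : IsTS B E) {f : V} (hf : B f f = 1)
    (hfE : f ∈ perp B E) : Function.Surjective (dlt E f hfE) := by
  intro e
  obtain ⟨u, hu, hue⟩ := exists_ue h hE hf hfE (Multiplicative.toAdd e).2
  refine ⟨⟨u, hu⟩, ?_⟩
  apply Multiplicative.toAdd.injective
  apply Subtype.ext
  rw [dlt_coe]
  show ac B u f - f = _
  rw [hue, add_sub_cancel_left]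

/-- The radical. -/
def rad {E : Submodule F V} {f : V} (hfE : f ∈ perp B E) (C : E →ₛₗ[σ] E →ₗ[F] F) : Subgroup (UE B E) :=
  (LinearMap.ker C).toAddSubgroup.toSubgroup.comap (dlt E f hfE)

theorem mem_rad {E : Submodule F V} {f : V} (hfE : f ∈ perp B E) {C : E →ₛₗ[σ] E →ₗ[F] F} {u : UE B E} :
    u ∈ rad hfE C ↔ C ⟨ac B (u : UU B) f - f, u.2.2 f hfE⟩ = 0 := Iff.rfl

theorem card_rad (h : HS q σ B) {E : Submodule F V} (hE : IsTS B E) {f : V} (hf : B f f = 1)
    (hfE : f ∈ perp B E) (C : E →ₛₗ[σ] E →ₗ[F] F) {r : ℕ}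
    (hr : finrank F (LinearMap.ker C) + r = finrank F E) :
    Nat.card (UE B E) = Nat.card (rad hfE C) * (q ^ r) ^ 2 := by
  rw [← (rad hfE C).card_mul_index]
  congr 1
  rw [rad, Subgroup.index_comap_of_surjective _ (dlt_surjective h hE hf hfE)]
  have h1 := ((LinearMap.ker C).toAddSubgroup.toSubgroup).card_mul_index
  have h2 : Nat.card (Multiplicative E) = Nat.card E := rfl
  have h3 : Nat.card ((LinearMap.ker C).toAddSubgroup.toSubgroup) = Nat.card (LinearMap.ker C) := rfl
  rw [h2, h3, Module.natCard_eq_pow_finrank (K := F) (V := E),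
    Module.natCard_eq_pow_finrank (K := F) (V := LinearMap.ker C), h.card, ← hr, pow_add] at h1
  have h4 := Nat.eq_of_mul_eq_mul_left (by have := h.two_le; positivity) h1
  rw [h4, ← pow_mul, ← pow_mul, mul_comm]

theorem comm_mem (h : HS q σ B) {E : Submodule F V} {f : V} (hf : B f f = 1)
    (hfE : f ∈ perp B E) (hperp : perp B E = E ⊔ Submodule.span F {f}) {u w : UU B} (hu : u ∈ UE B E)
    (hw : w ∈ UE B E) : u * w * u⁻¹ * w⁻¹ ∈ FixS B (perp B E) := by
  intro x hx
  have h2 := hx _ (hu.2 f hfE)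
  have h3 := hx _ (hw.2 f hfE)
  have h5 := comm_zz h hf hfE hperp hu hw (hu.2 f hfE) (hw.2 f hfE) (by abel) (by abel) x
  rw [h2, h3, zero_smul, zero_smul, add_zero, sub_zero] at h5
  exact h5

/-- **The multiplicity of a linear character of rank `r` is at least `q ^ r`.** -/
theorem le_ml (h : HS q σ B) {E : Submodule F V} (hE : IsTS B E) {f : V} (hf : B f f = 1)
    (hfE : f ∈ perp B E) (hperp : perp B E = E ⊔ Submodule.span F {f}) {χ : UU B → ℂ}
    (hχ : IsCharacter (UU B) χ) (l : FixS B (perp B E) →* ℂˣ) {k : ℕ}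
    (hk : ml (fun z : FixS B (perp B E) => χ z) l = k) (hk0 : k ≠ 0) {ψ : AddChar F ℂ} (hψ : ψ ≠ 1)
    {C : E →ₛₗ[σ] E →ₗ[F] F} (hl : Bel l ψ C) {r : ℕ}
    (hr : finrank F (LinearMap.ker C) + r = finrank F E) : q ^ r ≤ k := by
  have hZU : FixS B (perp B E) ≤ UE B E := FixS_le_UE hE
  have hcomm : ∀ z ∈ FixS B (perp B E), ∀ u ∈ UE B E, z * u = u * z := fun z hz u hu => FixS_comm_UE h hE hz hu
  have hM := isCharacter_part hcomm hχ l
  have hM1 : part (FixS B (perp B E)) (UE B E) χ l 1 = k := by rw [part_one, hk]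
  have hZcomm : ∀ u w : UE B E, u * w * u⁻¹ * w⁻¹ ∈ (FixS B (perp B E)).subgroupOf (UE B E) :=
    fun u w => comm_mem h hf hfE hperp u.2 w.2
  have hheis := heis_deg (H := UE B E) ⊤ ((FixS B (perp B E)).subgroupOf (UE B E)) (fun u _ w _ => hZcomm u w)
    (rad hfE C) hM (by rw [hM1]; exact_mod_cast hk0)
    (l.comp (Subgroup.subgroupOfEquivOfLe hZU).toMonoidHom) (by
      intro z g
      have h1 := part_mul (A := FixS B (perp B E)) (C := UE B E) (χ := χ) l ⟨((z : UE B E) : UU B), z.2⟩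
        (z : UE B E).2 g
      exact h1) (by
      intro u _ hu
      rw [mem_rad]
      apply LinearMap.ext
      intro e'
      rw [LinearMap.zero_apply]
      apply eq_zero_of_psi hψ
      intro c
      obtain ⟨w, hw, hwe⟩ := exists_ue h hE hf hfE (c • e').2
      have h2 : l ⟨_, comm_mem h hf hfE hperp u.2 hw⟩ = 1 :=
        hu ⟨w, hw⟩ (Subgroup.mem_top _) (hZcomm u ⟨w, hw⟩)
      have h5 := comm_zz h hf hfE hperp u.2 hw (u.2.2 f hfE) (c • e').2 (by abel) hwe
      have h6 := hl ⟨_, comm_mem h hf hfE hperp u.2 hw⟩ ⟨ac B (u : UU B) f - f, u.2.2 f hfE⟩ (c • e') h5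
      rw [h2, map_smul, smul_eq_mul] at h6
      rw [← h6]
      rfl)
  rw [Blocks.Basic.charDegree_of_eq hM1, Subgroup.card_top, card_rad h hE hf hfE C hr] at hheis
  have h7 : (q ^ r) ^ 2 ≤ k ^ 2 := Nat.le_of_mul_le_mul_left hheis Nat.card_pos
  exact (Nat.pow_le_pow_iff_left (by norm_num)).1 h7

end

end Cfsg.Agent.H183.CC
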