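import Cfsg.Agent.Characters.Linear
import Cfsg.Agent.Characters.CCBasic
import Cfsg.Agent.CharactersDeep.ExtUnique
import Cfsg.Agent.CharactersDeep.CosetAverage
import Mathlib.Tactic

/-! # S4793, DEG: multiplicities of linear characters of abelian subgroups

`ml χ l` is the multiplicity of the linear character `l` in the character `χ` of a finite group. -/

set_option autoImplicit false

open Cfsg Cfsg.Agent.Characters.Core
open scoped ComplexConjugate

namespace Cfsg.Agent.H183.CC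

universe u v w

section

variable {A : Type u} [Group A]

/-- The multiplicity of the linear character `l` in `χ`. -/
noncomputable def ml (χ : A → ℂ) (l : A →* ℂˣ) : ℂ :=
  (Nat.card A : ℂ)⁻¹ * ∑ᶠ a : A, χ a * (((l a)⁻¹ : ℂˣ) : ℂ)

variable [Finite A]

theorem conj_hom (l : A →* ℂˣ) (a : A) : conj ((l a : ℂˣ) : ℂ) = (((l a)⁻¹ : ℂˣ) : ℂ) := by
  have h := isCharacter_apply_inv (G := A) (Characters.Linear.isCharacter_hom l) a
  rw [← h, map_inv]

theorem ml_eq [Fintype A] (χ : A → ℂ) (l : A →* ℂˣ) : ml χ l = classInner χ (fun a => ((l a : ℂˣ) : ℂ)) := by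
  rw [ml, classInner_def, finsum_eq_sum_of_fintype]
  congr 1
  refine Finset.sum_congr rfl fun a _ => ?_
  rw [conj_hom]

theorem exists_nat_ml {χ : A → ℂ} (hχ : IsCharacter A χ) (l : A →* ℂˣ) : ∃ n : ℕ, ml χ l = n := by
  have := Fintype.ofFinite A
  rw [ml_eq]
  exact classInner_isNat hχ (Characters.Linear.isCharacter_hom l)

theorem sum_ml_le {χ : A → ℂ} (hχ : IsCharacter A χ) (S : Finset (A →* ℂˣ)) {d : ℕ} (hd : χ 1 = d)
    (m : (A →* ℂˣ) → ℕ) (hm : ∀ l ∈ S, ml χ l = m l) : ∑ l ∈ S, m l ≤ d := by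
  classical
  have := Fintype.ofFinite A
  have : Finite (IrrCharacter A) := finite_irr
  have : Fintype (IrrCharacter A) := Fintype.ofFinite _
  obtain ⟨c, hc⟩ := exists_nat_comb hχ
  let φ : (A →* ℂˣ) → IrrCharacter A := fun l => ⟨_, Characters.Linear.isIrrCharacter_hom l⟩
  have hφ : Function.Injective φ := by
    intro l l' h
    ext a
    exact congrFun (congrArg Subtype.val h) a
  have h1 : ∀ l ∈ S, m l = c (φ l) := by
    intro l hl
    have h2 := hm l hl
    rw [ml_eq] at h2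
    have h3 : classInner χ (φ l : A → ℂ) = c (φ l) := by
      conv_lhs => rw [hc]
      exact classInner_sum_nsmul_irr c (φ l)
    have h4 : ((m l : ℕ) : ℂ) = (c (φ l) : ℂ) := by
      rw [← h2, ← h3]
    exact_mod_cast h4
  choose e he0 he using fun ψ : IrrCharacter A => isIrr_apply_one ψ.2
  have h5 : d = ∑ ψ : IrrCharacter A, c ψ * e ψ := by
    have h6 : (d : ℂ) = ((∑ ψ : IrrCharacter A, c ψ * e ψ : ℕ) : ℂ) := by
      rw [← hd, hc, Finset.sum_apply]
      push_cast
      refine Finset.sum_congr rfl fun ψ _ => ?_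
      rw [Pi.smul_apply, nsmul_eq_mul, he]
    exact_mod_cast h6
  rw [h5, Finset.sum_congr rfl h1]
  calc ∑ l ∈ S, c (φ l) = ∑ ψ ∈ S.image φ, c ψ := by
        rw [Finset.sum_image fun a _ b _ h => hφ h]
    _ ≤ ∑ ψ ∈ S.image φ, c ψ * e ψ := by
        refine Finset.sum_le_sum fun ψ _ => ?_
        exact Nat.le_mul_of_pos_right _ (he0 ψ)
    _ ≤ ∑ ψ : IrrCharacter A, c ψ * e ψ :=
        Finset.sum_le_sum_of_subset (Finset.subset_univ _)

theorem ml_add {χ χ' : A → ℂ} (l : A →* ℂˣ) : ml (fun a => χ a + χ' a) l = ml χ l + ml χ' l := by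
  have := Fintype.ofFinite A
  simp only [ml, finsum_eq_sum_of_fintype]
  rw [← mul_add, ← Finset.sum_add_distrib]
  congr 1
  refine Finset.sum_congr rfl fun a _ => ?_
  ring

theorem ml_sum {ι : Type*} (s : Finset ι) (χ : ι → A → ℂ) (l : A →* ℂˣ) :
    ml (fun a => ∑ i ∈ s, χ i a) l = ∑ i ∈ s, ml (χ i) l := by
  have := Fintype.ofFinite A
  simp only [ml, finsum_eq_sum_of_fintype]
  rw [← Finset.mul_sum, Finset.sum_comm]
  congr 1
  refine Finset.sum_congr rfl fun a _ => ?_
  rw [Finset.sum_mul]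

/-- an abelian group: a character all of whose multiplicities are zero except that of `1` is constant -/
theorem eq_one_of_ml (hc : ∀ a b : A, a * b = b * a) {χ : A → ℂ} (hχ : IsCharacter A χ)
    (h0 : ∀ l : A →* ℂˣ, l ≠ 1 → ml χ l = 0) (a : A) : χ a = χ 1 := by
  classical
  have := Fintype.ofFinite A
  have : Finite (IrrCharacter A) := finite_irr
  have : Fintype (IrrCharacter A) := Fintype.ofFinite _
  obtain ⟨c, hcc⟩ := exists_nat_comb hχ
  have h1 : ∀ ψ : IrrCharacter A, c ψ * ((ψ : A → ℂ) a) = c ψ * ((ψ : A → ℂ) 1) := by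
    intro ψ
    obtain ⟨l, hl⟩ := Characters.CCBasic.exists_hom_of_comm hc ψ.2
    by_cases hl1 : l = 1
    · rw [hl, hl1]
      simp
    · have h2 := h0 l hl1
      rw [ml_eq, hcc, ← hl, classInner_sum_nsmul_irr] at h2
      rw [h2, zero_mul, zero_mul]
  rw [hcc, Finset.sum_apply, Finset.sum_apply]
  refine Finset.sum_congr rfl fun ψ _ => ?_
  rw [Pi.smul_apply, Pi.smul_apply, nsmul_eq_mul, nsmul_eq_mul, h1]

/-- an abelian group: some multiplicity is not zero -/
theorem eq_zero_of_ml (hc : ∀ a b : A, a * b = b * a) {χ : A → ℂ} (hχ : IsCharacter A χ)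
    (h0 : ∀ l : A →* ℂˣ, ml χ l = 0) (a : A) : χ a = 0 := by
  classical
  have := Fintype.ofFinite A
  have : Finite (IrrCharacter A) := finite_irr
  have : Fintype (IrrCharacter A) := Fintype.ofFinite _
  obtain ⟨c, hcc⟩ := exists_nat_comb hχ
  have h1 : ∀ ψ : IrrCharacter A, (c ψ : ℂ) = 0 := by
    intro ψ
    obtain ⟨l, hl⟩ := Characters.CCBasic.exists_hom_of_comm hc ψ.2
    have h2 := h0 l
    rwa [ml_eq, hcc, ← hl, classInner_sum_nsmul_irr] at h2
  rw [hcc, Finset.sum_apply]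
  refine Finset.sum_eq_zero fun ψ _ => ?_
  rw [Pi.smul_apply, nsmul_eq_mul, h1, zero_mul]

end

section part

variable {G : Type u} [Group G]

/-- The part of `χ` on which the subgroup `A` acts by `l`, as a function on `C`. -/
noncomputable def part (A C : Subgroup G) (χ : G → ℂ) (l : A →* ℂˣ) (c : C) : ℂ :=
  (Nat.card A : ℂ)⁻¹ * ∑ᶠ a : A, χ ((a : G) * (c : G)) * (((l a)⁻¹ : ℂˣ) : ℂ)

theorem isCharacter_part [Finite G] {A C : Subgroup G} (hAC : ∀ a ∈ A, ∀ c ∈ C, a * c = c * a) {χ : G → ℂ}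
    (hχ : IsCharacter G χ) (l : A →* ℂˣ) : IsCharacter C (part A C χ l) := by
  classical
  have := Fintype.ofFinite A
  have := Fintype.ofFinite C
  have := Fintype.ofFinite G
  have hcomm : ∀ (a : A) (c : C), Commute (A.subtype a) (C.subtype c) := fun a c => hAC a a.2 c c.2
  let f : A × C →* G := MonoidHom.noncommCoprod A.subtype C.subtype hcomm
  have hf : ∀ a c, f (a, c) = a * c := fun a c => rfl
  let l' : A × C →* ℂˣ := (l.comp (MonoidHom.fst A C))⁻¹
  have h1 : IsCharacter (A × C) (fun x => χ (f x) * ((l' x : ℂˣ) : ℂ)) :=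
    isCharacter_mul (isCharacter_comp f hχ) (Characters.Linear.isCharacter_hom l')
  let N : Subgroup (A × C) := (MonoidHom.inl A C).range
  have hN : N.Normal := by
    constructor
    rintro _ ⟨a, rfl⟩ ⟨b, c⟩
    exact ⟨b * a * b⁻¹, by simp⟩
  have := Fintype.ofFinite N
  have h2 := CharactersDeep.CosetAverage.isCharacter_cosetAverage N h1
  have h3 := isCharacter_comp (MonoidHom.inr A C) h2
  convert h3 using 1
  funext c
  let e : A ≃ N := (MonoidHom.ofInjective (f := MonoidHom.inl A C)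
    (fun a b h => (Prod.ext_iff.1 h).1)).toEquiv
  have he : ∀ a, ((e a : N) : A × C) = (a, 1) := fun a => rfl
  show part A C χ l c = (Nat.card N : ℂ)⁻¹ * ∑ n : N, χ (f ((n : A × C) * (1, c))) * ((l' ((n : A × C) * (1, c)) : ℂˣ) : ℂ)
  rw [part, finsum_eq_sum_of_fintype, Nat.card_congr e]
  congr 1
  refine Fintype.sum_equiv e _ _ fun a => ?_
  rw [he, Prod.mk_mul_mk, mul_one, one_mul, hf]
  rfl

theorem part_one {A C : Subgroup G} {χ : G → ℂ} (l : A →* ℂˣ) :
    part A C χ l 1 = ml (fun a : A => χ a) l := by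
  rw [part, ml]
  simp

/-- `A` acts by `l`. -/
theorem part_mul [Finite G] {A C : Subgroup G} {χ : G → ℂ} (l : A →* ℂˣ) (a : A) (ha : (a : G) ∈ C) (c : C) :
    part A C χ l (⟨a, ha⟩ * c) = (l a : ℂˣ) * part A C χ l c := by
  have := Fintype.ofFinite A
  have key : ∑ b : A, χ ((b : G) * ((a : G) * (c : G))) * (((l b)⁻¹ : ℂˣ) : ℂ) =
      ((l a : ℂˣ) : ℂ) * ∑ b : A, χ ((b : G) * (c : G)) * (((l b)⁻¹ : ℂˣ) : ℂ) := by
    rw [Finset.mul_sum]
    refine Fintype.sum_equiv (Equiv.mulRight a) _ _ fun b => ?_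
    rw [Equiv.coe_mulRight, Subgroup.coe_mul, map_mul, mul_inv, Units.val_mul, mul_assoc (b : G)]
    have h : ((l a : ℂˣ) : ℂ) * (((l a)⁻¹ : ℂˣ) : ℂ) = 1 := Units.mul_inv _
    linear_combination (- χ ((b : G) * ((a : G) * (c : G))) * (((l b)⁻¹ : ℂˣ) : ℂ)) * h
  rw [part, part, finsum_eq_sum_of_fintype, finsum_eq_sum_of_fintype]
  show (Nat.card A : ℂ)⁻¹ * ∑ b : A, χ ((b : G) * ((a : G) * (c : G))) * (((l b)⁻¹ : ℂˣ) : ℂ) = _
  rw [key]
  ring

theorem ml_congr {A : Type*} [Group A] {χ χ' : A → ℂ} (h : ∀ a, χ a = χ' a) (l : A →* ℂˣ) : ml χ l = ml χ' l := by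
  have h1 : χ = χ' := funext h
  rw [h1]

/-- transport of multiplicities by an automorphism -/
theorem ml_comp {A : Type*} [Group A] [Finite A] {χ : A → ℂ} (e : A ≃* A) (he : ∀ a, χ (e a) = χ a) (l l' : A →* ℂˣ)
    (hl : ∀ a, l (e a) = l' a) : ml χ l = ml χ l' := by
  have := Fintype.ofFinite A
  rw [ml, ml, finsum_eq_sum_of_fintype, finsum_eq_sum_of_fintype]
  congr 1
  symm
  refine Fintype.sum_equiv e.toEquiv _ _ fun a => ?_
  show _ = χ (e a) * (((l (e a))⁻¹ : ℂˣ) : ℂ)
  rw [he, hl]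

/-- **The counting argument.** -/
theorem exists_missing [Finite G] {χ : G → ℂ} (hχ : IsCharacter G χ) {Z R : Subgroup G}
    (hZ : ∀ a ∈ Z, ∀ b ∈ Z, a * b = b * a) (hZR : ∀ r ∈ R, ∀ z ∈ Z, r * z = z * r)
    {q N k : ℕ} (hN : 0 < N) (hd : χ 1 = (q * N : ℕ)) (S : Finset (Z →* ℂˣ)) (hS : N ≤ S.card)
    (l' : Z →* ℂˣ) (hk : ml (fun z : Z => χ z) l' = k) (hqk : q ≤ k)
    (hconj : ∀ l ∈ S, ∃ e : Z ≃* Z, (∀ z, l (e z) = l' z) ∧ ∀ z : Z, ∀ r ∈ R, χ (r * (e z : Z)) = χ (r * z))
    (lam : Fin (q + 1) → (R →* ℂˣ)) (hlam : ∀ r : R, r ≠ 1 → ∑ j, (((lam j r)⁻¹ : ℂˣ) : ℂ) = 0)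
    (hR : Nat.card R = q + 1) :
    ∃ j, ∑ᶠ r : R, χ (r : G) * (((lam j r)⁻¹ : ℂˣ) : ℂ) = 0 := by
  classical
  have := Fintype.ofFinite R
  have hZ' : ∀ a b : Z, a * b = b * a := fun a b => Subtype.ext (hZ a a.2 b b.2)
  have hχZ : IsCharacter Z (fun z : Z => χ z) := isCharacter_comp Z.subtype hχ
  -- the multiplicities
  choose m hm using fun l => exists_nat_ml hχZ l
  choose M hM using fun (j : Fin (q + 1)) (l : Z →* ℂˣ) => exists_nat_ml (isCharacter_part hZR hχ (lam j)) l
  have hsum : ∀ l, ∑ j, M j l = m l := by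
    intro l
    have h1 : (fun z : Z => χ z) = fun z : Z => ∑ j, part R Z χ (lam j) z := by
      funext z
      simp only [part, finsum_eq_sum_of_fintype]
      rw [← Finset.mul_sum, Finset.sum_comm, Finset.sum_eq_single 1]
      · rw [OneMemClass.coe_one, one_mul]
        simp only [map_one, inv_one, Units.val_one, mul_one]
        rw [Finset.sum_const, Finset.card_univ, Fintype.card_fin, hR, nsmul_eq_mul, ← mul_assoc,
          inv_mul_cancel₀, one_mul]
        exact_mod_cast Nat.succ_ne_zero q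
      · intro r _ hr
        rw [← Finset.mul_sum, hlam r hr, mul_zero]
      · intro h
        exact absurd (Finset.mem_univ _) h
    have h2 := hm l
    rw [h1, ml_sum] at h2
    have h3 : ((∑ j, M j l : ℕ) : ℂ) = (m l : ℂ) := by
      rw [← h2]
      push_cast
      exact Finset.sum_congr rfl fun j _ => (hM j l).symm
    exact_mod_cast h3
  have hmS : ∀ l ∈ S, m l = k := by
    intro l hl
    obtain ⟨e, he1, he2⟩ := hconj l hl
    have h1 : ml (fun z : Z => χ z) l = ml (fun z : Z => χ z) l' :=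
      ml_comp e (fun z => by simpa using he2 z 1 R.one_mem) l l' he1
    rw [hm, hk] at h1
    exact_mod_cast h1
  -- the estimate
  have hle := sum_ml_le hχZ S (d := q * N) hd m (fun l _ => hm l)
  rw [Finset.sum_congr rfl hmS, Finset.sum_const, smul_eq_mul] at hle
  have hkq : k = q := by
    by_contra hne
    have h1 : q + 1 ≤ k := by omega
    have h2 : N * (q + 1) ≤ S.card * k := Nat.mul_le_mul hS h1
    have h3 : N * (q + 1) = q * N + N := by ring
    omega
  subst hkq
  have hoff : ∀ l, l ∉ S → m l = 0 := by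
    intro l hl
    have h1 := sum_ml_le hχZ (insert l S) (d := k * N) hd m (fun l _ => hm l)
    rw [Finset.sum_insert hl, Finset.sum_congr rfl hmS, Finset.sum_const, smul_eq_mul] at h1
    have h2 : N * k ≤ S.card * k := Nat.mul_le_mul_right k hS
    have h3 : N * k = k * N := mul_comm _ _
    omega
  have hl'm : m l' = k := by
    have h1 := hm l'
    rw [hk] at h1
    exact_mod_cast h1.symm
  obtain ⟨j, hj⟩ : ∃ j, M j l' = 0 := by
    by_contra hne
    push Not at hne
    have h1 : (∑ _j : Fin (k + 1), 1 : ℕ) ≤ ∑ j, M j l' :=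
      Finset.sum_le_sum fun j _ => Nat.one_le_iff_ne_zero.2 (hne j)
    rw [hsum, hl'm, Finset.sum_const, Finset.card_univ, Fintype.card_fin] at h1
    simp at h1
  refine ⟨j, ?_⟩
  have hall : ∀ l, M j l = 0 := by
    intro l
    by_cases hl : l ∈ S
    · obtain ⟨e, he1, he2⟩ := hconj l hl
      have h1 : ml (part R Z χ (lam j)) l = ml (part R Z χ (lam j)) l' := by
        refine ml_comp e (fun z => ?_) l l' he1
        simp only [part]
        congr 1
        refine finsum_congr fun r => ?_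
        rw [he2 z r r.2]
      rw [hM, hM, hj] at h1
      exact_mod_cast h1
    · have h1 := hsum l
      rw [hoff l hl, Finset.sum_eq_zero_iff] at h1
      exact h1 j (Finset.mem_univ _)
  have h0 := eq_zero_of_ml hZ' (isCharacter_part hZR hχ (lam j)) (fun l => by rw [hM, hall l, Nat.cast_zero]) 1
  rw [part] at h0
  rcases mul_eq_zero.1 h0 with h1 | h1
  · exact absurd h1 (inv_ne_zero card_ne_zero_complex)
  · simpa using h1

end part

end Cfsg.Agent.H183.CC
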